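import Cfsg.Agent.Lib.Helper35.ONJ1.Chk0
import Cfsg.Agent.Lib.Helper35.ONJ1.Chk1
import Cfsg.Agent.Lib.Helper35.ONJ1.Chk2
import Cfsg.Agent.Lib.Helper35.ONJ1.Chk3
import Cfsg.Agent.Lib.Helper35.ONJ1.Chk4
import Cfsg.Agent.Lib.Helper35.ONJ1.Chk5
import Cfsg.Agent.Lib.Helper35.ONJ1.Chk6
import Cfsg.Agent.Lib.Helper35.ONJ1.Chk7
import Cfsg.Agent.Lib.Helper35.ONJ1.Chk8
import Cfsg.Agent.Lib.Helper35.ONJ1.Chk9
import Cfsg.Agent.Lib.Helper35.ONJ1.Chk10

namespace Cfsg.Agent.Lib.Helper35.ONJ1

open Cfsg.Agent.Lib.Helper35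

set_option maxRecDepth 100000

theorem e0u0 : ∀ i, i < 42720 → fe0 i = true := below_step fe0 0 42720 42720 (below_zero fe0) e0c0 rfl
theorem e0u1 : ∀ i, i < 85440 → fe0 i = true := below_step fe0 42720 42720 85440 e0u0 e0c1 rfl
theorem e0u2 : ∀ i, i < 122760 → fe0 i = true := below_step fe0 85440 37320 122760 e0u1 e0c2 rfl
theorem e1u0 : ∀ i, i < 3417 → fe1 i = true := below_step fe1 0 3417 3417 (below_zero fe1) e1c0 rfl
theorem e1u1 : ∀ i, i < 6834 → fe1 i = true := below_step fe1 3417 3417 6834 e1u0 e1c1 rfl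
theorem e1u2 : ∀ i, i < 10251 → fe1 i = true := below_step fe1 6834 3417 10251 e1u1 e1c2 rfl
theorem e1u3 : ∀ i, i < 13668 → fe1 i = true := below_step fe1 10251 3417 13668 e1u2 e1c3 rfl
theorem e1u4 : ∀ i, i < 17085 → fe1 i = true := below_step fe1 13668 3417 17085 e1u3 e1c4 rfl
theorem e1u5 : ∀ i, i < 20502 → fe1 i = true := below_step fe1 17085 3417 20502 e1u4 e1c5 rfl
theorem e1u6 : ∀ i, i < 23919 → fe1 i = true := below_step fe1 20502 3417 23919 e1u5 e1c6 rfl
theorem e1u7 : ∀ i, i < 27336 → fe1 i = true := below_step fe1 23919 3417 27336 e1u6 e1c7 rfl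
theorem e1u8 : ∀ i, i < 30753 → fe1 i = true := below_step fe1 27336 3417 30753 e1u7 e1c8 rfl
theorem e1u9 : ∀ i, i < 34170 → fe1 i = true := below_step fe1 30753 3417 34170 e1u8 e1c9 rfl
theorem e1u10 : ∀ i, i < 37587 → fe1 i = true := below_step fe1 34170 3417 37587 e1u9 e1c10 rfl
theorem e1u11 : ∀ i, i < 41004 → fe1 i = true := below_step fe1 37587 3417 41004 e1u10 e1c11 rfl
theorem e1u12 : ∀ i, i < 44421 → fe1 i = true := below_step fe1 41004 3417 44421 e1u11 e1c12 rfl
theorem e1u13 : ∀ i, i < 47838 → fe1 i = true := below_step fe1 44421 3417 47838 e1u12 e1c13 rfl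
theorem e1u14 : ∀ i, i < 51255 → fe1 i = true := below_step fe1 47838 3417 51255 e1u13 e1c14 rfl
theorem e1u15 : ∀ i, i < 54672 → fe1 i = true := below_step fe1 51255 3417 54672 e1u14 e1c15 rfl
theorem e1u16 : ∀ i, i < 58089 → fe1 i = true := below_step fe1 54672 3417 58089 e1u15 e1c16 rfl
theorem e1u17 : ∀ i, i < 61506 → fe1 i = true := below_step fe1 58089 3417 61506 e1u16 e1c17 rfl
theorem e1u18 : ∀ i, i < 64923 → fe1 i = true := below_step fe1 61506 3417 64923 e1u17 e1c18 rfl
theorem e1u19 : ∀ i, i < 68340 → fe1 i = true := below_step fe1 64923 3417 68340 e1u18 e1c19 rfl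
theorem e1u20 : ∀ i, i < 71757 → fe1 i = true := below_step fe1 68340 3417 71757 e1u19 e1c20 rfl
theorem e1u21 : ∀ i, i < 75174 → fe1 i = true := below_step fe1 71757 3417 75174 e1u20 e1c21 rfl
theorem e1u22 : ∀ i, i < 78591 → fe1 i = true := below_step fe1 75174 3417 78591 e1u21 e1c22 rfl
theorem e1u23 : ∀ i, i < 82008 → fe1 i = true := below_step fe1 78591 3417 82008 e1u22 e1c23 rfl
theorem e1u24 : ∀ i, i < 85425 → fe1 i = true := below_step fe1 82008 3417 85425 e1u23 e1c24 rfl
theorem e1u25 : ∀ i, i < 88842 → fe1 i = true := below_step fe1 85425 3417 88842 e1u24 e1c25 rfl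
theorem e1u26 : ∀ i, i < 92259 → fe1 i = true := below_step fe1 88842 3417 92259 e1u25 e1c26 rfl
theorem e1u27 : ∀ i, i < 95676 → fe1 i = true := below_step fe1 92259 3417 95676 e1u26 e1c27 rfl
theorem e1u28 : ∀ i, i < 99093 → fe1 i = true := below_step fe1 95676 3417 99093 e1u27 e1c28 rfl
theorem e1u29 : ∀ i, i < 102510 → fe1 i = true := below_step fe1 99093 3417 102510 e1u28 e1c29 rfl
theorem e1u30 : ∀ i, i < 105927 → fe1 i = true := below_step fe1 102510 3417 105927 e1u29 e1c30 rfl
theorem e1u31 : ∀ i, i < 109344 → fe1 i = true := below_step fe1 105927 3417 109344 e1u30 e1c31 rfl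
theorem e1u32 : ∀ i, i < 112761 → fe1 i = true := below_step fe1 109344 3417 112761 e1u31 e1c32 rfl
theorem e1u33 : ∀ i, i < 116178 → fe1 i = true := below_step fe1 112761 3417 116178 e1u32 e1c33 rfl
theorem e1u34 : ∀ i, i < 119595 → fe1 i = true := below_step fe1 116178 3417 119595 e1u33 e1c34 rfl
theorem e1u35 : ∀ i, i < 122760 → fe1 i = true := below_step fe1 119595 3165 122760 e1u34 e1c35 rfl
theorem e2u0 : ∀ i, i < 3417 → fe2 i = true := below_step fe2 0 3417 3417 (below_zero fe2) e2c0 rfl
theorem e2u1 : ∀ i, i < 6834 → fe2 i = true := below_step fe2 3417 3417 6834 e2u0 e2c1 rfl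
theorem e2u2 : ∀ i, i < 10251 → fe2 i = true := below_step fe2 6834 3417 10251 e2u1 e2c2 rfl
theorem e2u3 : ∀ i, i < 13668 → fe2 i = true := below_step fe2 10251 3417 13668 e2u2 e2c3 rfl
theorem e2u4 : ∀ i, i < 17085 → fe2 i = true := below_step fe2 13668 3417 17085 e2u3 e2c4 rfl
theorem e2u5 : ∀ i, i < 20502 → fe2 i = true := below_step fe2 17085 3417 20502 e2u4 e2c5 rfl
theorem e2u6 : ∀ i, i < 23919 → fe2 i = true := below_step fe2 20502 3417 23919 e2u5 e2c6 rfl
theorem e2u7 : ∀ i, i < 27336 → fe2 i = true := below_step fe2 23919 3417 27336 e2u6 e2c7 rfl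
theorem e2u8 : ∀ i, i < 30753 → fe2 i = true := below_step fe2 27336 3417 30753 e2u7 e2c8 rfl
theorem e2u9 : ∀ i, i < 34170 → fe2 i = true := below_step fe2 30753 3417 34170 e2u8 e2c9 rfl
theorem e2u10 : ∀ i, i < 37587 → fe2 i = true := below_step fe2 34170 3417 37587 e2u9 e2c10 rfl
theorem e2u11 : ∀ i, i < 41004 → fe2 i = true := below_step fe2 37587 3417 41004 e2u10 e2c11 rfl
theorem e2u12 : ∀ i, i < 44421 → fe2 i = true := below_step fe2 41004 3417 44421 e2u11 e2c12 rfl
theorem e2u13 : ∀ i, i < 47838 → fe2 i = true := below_step fe2 44421 3417 47838 e2u12 e2c13 rfl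
theorem e2u14 : ∀ i, i < 51255 → fe2 i = true := below_step fe2 47838 3417 51255 e2u13 e2c14 rfl
theorem e2u15 : ∀ i, i < 54672 → fe2 i = true := below_step fe2 51255 3417 54672 e2u14 e2c15 rfl
theorem e2u16 : ∀ i, i < 58089 → fe2 i = true := below_step fe2 54672 3417 58089 e2u15 e2c16 rfl
theorem e2u17 : ∀ i, i < 61506 → fe2 i = true := below_step fe2 58089 3417 61506 e2u16 e2c17 rfl
theorem e2u18 : ∀ i, i < 64923 → fe2 i = true := below_step fe2 61506 3417 64923 e2u17 e2c18 rfl
theorem e2u19 : ∀ i, i < 68340 → fe2 i = true := below_step fe2 64923 3417 68340 e2u18 e2c19 rfl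
theorem e2u20 : ∀ i, i < 71757 → fe2 i = true := below_step fe2 68340 3417 71757 e2u19 e2c20 rfl
theorem e2u21 : ∀ i, i < 75174 → fe2 i = true := below_step fe2 71757 3417 75174 e2u20 e2c21 rfl
theorem e2u22 : ∀ i, i < 78591 → fe2 i = true := below_step fe2 75174 3417 78591 e2u21 e2c22 rfl
theorem e2u23 : ∀ i, i < 82008 → fe2 i = true := below_step fe2 78591 3417 82008 e2u22 e2c23 rfl
theorem e2u24 : ∀ i, i < 85425 → fe2 i = true := below_step fe2 82008 3417 85425 e2u23 e2c24 rfl
theorem e2u25 : ∀ i, i < 88842 → fe2 i = true := below_step fe2 85425 3417 88842 e2u24 e2c25 rfl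
theorem e2u26 : ∀ i, i < 92259 → fe2 i = true := below_step fe2 88842 3417 92259 e2u25 e2c26 rfl
theorem e2u27 : ∀ i, i < 95676 → fe2 i = true := below_step fe2 92259 3417 95676 e2u26 e2c27 rfl
theorem e2u28 : ∀ i, i < 99093 → fe2 i = true := below_step fe2 95676 3417 99093 e2u27 e2c28 rfl
theorem e2u29 : ∀ i, i < 102510 → fe2 i = true := below_step fe2 99093 3417 102510 e2u28 e2c29 rfl
theorem e2u30 : ∀ i, i < 105927 → fe2 i = true := below_step fe2 102510 3417 105927 e2u29 e2c30 rfl
theorem e2u31 : ∀ i, i < 109344 → fe2 i = true := below_step fe2 105927 3417 109344 e2u30 e2c31 rfl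
theorem e2u32 : ∀ i, i < 112761 → fe2 i = true := below_step fe2 109344 3417 112761 e2u31 e2c32 rfl
theorem e2u33 : ∀ i, i < 116178 → fe2 i = true := below_step fe2 112761 3417 116178 e2u32 e2c33 rfl
theorem e2u34 : ∀ i, i < 119595 → fe2 i = true := below_step fe2 116178 3417 119595 e2u33 e2c34 rfl
theorem e2u35 : ∀ i, i < 122760 → fe2 i = true := below_step fe2 119595 3165 122760 e2u34 e2c35 rfl
theorem ru0 : ∀ i, i < 530 → fr i = true := below_step fr 0 530 530 (below_zero fr) rc0 rfl
theorem ru1 : ∀ i, i < 1060 → fr i = true := below_step fr 530 530 1060 ru0 rc1 rfl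
theorem ru2 : ∀ i, i < 1590 → fr i = true := below_step fr 1060 530 1590 ru1 rc2 rfl
theorem ru3 : ∀ i, i < 2120 → fr i = true := below_step fr 1590 530 2120 ru2 rc3 rfl
theorem ru4 : ∀ i, i < 2650 → fr i = true := below_step fr 2120 530 2650 ru3 rc4 rfl
theorem ru5 : ∀ i, i < 3180 → fr i = true := below_step fr 2650 530 3180 ru4 rc5 rfl
theorem ru6 : ∀ i, i < 3710 → fr i = true := below_step fr 3180 530 3710 ru5 rc6 rfl
theorem ru7 : ∀ i, i < 4240 → fr i = true := below_step fr 3710 530 4240 ru6 rc7 rfl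
theorem ru8 : ∀ i, i < 4770 → fr i = true := below_step fr 4240 530 4770 ru7 rc8 rfl
theorem ru9 : ∀ i, i < 5300 → fr i = true := below_step fr 4770 530 5300 ru8 rc9 rfl
theorem ru10 : ∀ i, i < 5830 → fr i = true := below_step fr 5300 530 5830 ru9 rc10 rfl
theorem ru11 : ∀ i, i < 6360 → fr i = true := below_step fr 5830 530 6360 ru10 rc11 rfl
theorem ru12 : ∀ i, i < 6890 → fr i = true := below_step fr 6360 530 6890 ru11 rc12 rfl
theorem ru13 : ∀ i, i < 7420 → fr i = true := below_step fr 6890 530 7420 ru12 rc13 rfl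
theorem ru14 : ∀ i, i < 7950 → fr i = true := below_step fr 7420 530 7950 ru13 rc14 rfl
theorem ru15 : ∀ i, i < 8480 → fr i = true := below_step fr 7950 530 8480 ru14 rc15 rfl
theorem ru16 : ∀ i, i < 9010 → fr i = true := below_step fr 8480 530 9010 ru15 rc16 rfl
theorem ru17 : ∀ i, i < 9540 → fr i = true := below_step fr 9010 530 9540 ru16 rc17 rfl
theorem ru18 : ∀ i, i < 10070 → fr i = true := below_step fr 9540 530 10070 ru17 rc18 rfl
theorem ru19 : ∀ i, i < 10600 → fr i = true := below_step fr 10070 530 10600 ru18 rc19 rfl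
theorem ru20 : ∀ i, i < 11130 → fr i = true := below_step fr 10600 530 11130 ru19 rc20 rfl
theorem ru21 : ∀ i, i < 11660 → fr i = true := below_step fr 11130 530 11660 ru20 rc21 rfl
theorem ru22 : ∀ i, i < 12190 → fr i = true := below_step fr 11660 530 12190 ru21 rc22 rfl
theorem ru23 : ∀ i, i < 12720 → fr i = true := below_step fr 12190 530 12720 ru22 rc23 rfl
theorem ru24 : ∀ i, i < 13250 → fr i = true := below_step fr 12720 530 13250 ru23 rc24 rfl
theorem ru25 : ∀ i, i < 13780 → fr i = true := below_step fr 13250 530 13780 ru24 rc25 rfl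
theorem ru26 : ∀ i, i < 14310 → fr i = true := below_step fr 13780 530 14310 ru25 rc26 rfl
theorem ru27 : ∀ i, i < 14840 → fr i = true := below_step fr 14310 530 14840 ru26 rc27 rfl
theorem ru28 : ∀ i, i < 15370 → fr i = true := below_step fr 14840 530 15370 ru27 rc28 rfl
theorem ru29 : ∀ i, i < 15900 → fr i = true := below_step fr 15370 530 15900 ru28 rc29 rfl
theorem ru30 : ∀ i, i < 16430 → fr i = true := below_step fr 15900 530 16430 ru29 rc30 rfl
theorem ru31 : ∀ i, i < 16960 → fr i = true := below_step fr 16430 530 16960 ru30 rc31 rfl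
theorem ru32 : ∀ i, i < 17490 → fr i = true := below_step fr 16960 530 17490 ru31 rc32 rfl
theorem ru33 : ∀ i, i < 18020 → fr i = true := below_step fr 17490 530 18020 ru32 rc33 rfl
theorem ru34 : ∀ i, i < 18550 → fr i = true := below_step fr 18020 530 18550 ru33 rc34 rfl
theorem ru35 : ∀ i, i < 19080 → fr i = true := below_step fr 18550 530 19080 ru34 rc35 rfl
theorem ru36 : ∀ i, i < 19610 → fr i = true := below_step fr 19080 530 19610 ru35 rc36 rfl
theorem ru37 : ∀ i, i < 20140 → fr i = true := below_step fr 19610 530 20140 ru36 rc37 rfl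
theorem ru38 : ∀ i, i < 20670 → fr i = true := below_step fr 20140 530 20670 ru37 rc38 rfl
theorem ru39 : ∀ i, i < 21200 → fr i = true := below_step fr 20670 530 21200 ru38 rc39 rfl
theorem ru40 : ∀ i, i < 21730 → fr i = true := below_step fr 21200 530 21730 ru39 rc40 rfl
theorem ru41 : ∀ i, i < 22260 → fr i = true := below_step fr 21730 530 22260 ru40 rc41 rfl
theorem ru42 : ∀ i, i < 22790 → fr i = true := below_step fr 22260 530 22790 ru41 rc42 rfl
theorem ru43 : ∀ i, i < 23320 → fr i = true := below_step fr 22790 530 23320 ru42 rc43 rfl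
theorem ru44 : ∀ i, i < 23850 → fr i = true := below_step fr 23320 530 23850 ru43 rc44 rfl
theorem ru45 : ∀ i, i < 24380 → fr i = true := below_step fr 23850 530 24380 ru44 rc45 rfl
theorem ru46 : ∀ i, i < 24910 → fr i = true := below_step fr 24380 530 24910 ru45 rc46 rfl
theorem ru47 : ∀ i, i < 25440 → fr i = true := below_step fr 24910 530 25440 ru46 rc47 rfl
theorem ru48 : ∀ i, i < 25970 → fr i = true := below_step fr 25440 530 25970 ru47 rc48 rfl
theorem ru49 : ∀ i, i < 26500 → fr i = true := below_step fr 25970 530 26500 ru48 rc49 rfl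
theorem ru50 : ∀ i, i < 27030 → fr i = true := below_step fr 26500 530 27030 ru49 rc50 rfl
theorem ru51 : ∀ i, i < 27560 → fr i = true := below_step fr 27030 530 27560 ru50 rc51 rfl
theorem ru52 : ∀ i, i < 28090 → fr i = true := below_step fr 27560 530 28090 ru51 rc52 rfl
theorem ru53 : ∀ i, i < 28620 → fr i = true := below_step fr 28090 530 28620 ru52 rc53 rfl
theorem ru54 : ∀ i, i < 29150 → fr i = true := below_step fr 28620 530 29150 ru53 rc54 rfl
theorem ru55 : ∀ i, i < 29680 → fr i = true := below_step fr 29150 530 29680 ru54 rc55 rfl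
theorem ru56 : ∀ i, i < 30210 → fr i = true := below_step fr 29680 530 30210 ru55 rc56 rfl
theorem ru57 : ∀ i, i < 30740 → fr i = true := below_step fr 30210 530 30740 ru56 rc57 rfl
theorem ru58 : ∀ i, i < 31270 → fr i = true := below_step fr 30740 530 31270 ru57 rc58 rfl
theorem ru59 : ∀ i, i < 31800 → fr i = true := below_step fr 31270 530 31800 ru58 rc59 rfl
theorem ru60 : ∀ i, i < 32330 → fr i = true := below_step fr 31800 530 32330 ru59 rc60 rfl
theorem ru61 : ∀ i, i < 32860 → fr i = true := below_step fr 32330 530 32860 ru60 rc61 rfl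
theorem ru62 : ∀ i, i < 33390 → fr i = true := below_step fr 32860 530 33390 ru61 rc62 rfl
theorem ru63 : ∀ i, i < 33920 → fr i = true := below_step fr 33390 530 33920 ru62 rc63 rfl
theorem ru64 : ∀ i, i < 34450 → fr i = true := below_step fr 33920 530 34450 ru63 rc64 rfl
theorem ru65 : ∀ i, i < 34980 → fr i = true := below_step fr 34450 530 34980 ru64 rc65 rfl
theorem ru66 : ∀ i, i < 35510 → fr i = true := below_step fr 34980 530 35510 ru65 rc66 rfl
theorem ru67 : ∀ i, i < 36040 → fr i = true := below_step fr 35510 530 36040 ru66 rc67 rfl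
theorem ru68 : ∀ i, i < 36570 → fr i = true := below_step fr 36040 530 36570 ru67 rc68 rfl
theorem ru69 : ∀ i, i < 37100 → fr i = true := below_step fr 36570 530 37100 ru68 rc69 rfl
theorem ru70 : ∀ i, i < 37630 → fr i = true := below_step fr 37100 530 37630 ru69 rc70 rfl
theorem ru71 : ∀ i, i < 38160 → fr i = true := below_step fr 37630 530 38160 ru70 rc71 rfl
theorem ru72 : ∀ i, i < 38690 → fr i = true := below_step fr 38160 530 38690 ru71 rc72 rfl
theorem ru73 : ∀ i, i < 39220 → fr i = true := below_step fr 38690 530 39220 ru72 rc73 rfl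
theorem ru74 : ∀ i, i < 39750 → fr i = true := below_step fr 39220 530 39750 ru73 rc74 rfl
theorem ru75 : ∀ i, i < 40280 → fr i = true := below_step fr 39750 530 40280 ru74 rc75 rfl
theorem ru76 : ∀ i, i < 40810 → fr i = true := below_step fr 40280 530 40810 ru75 rc76 rfl
theorem ru77 : ∀ i, i < 41340 → fr i = true := below_step fr 40810 530 41340 ru76 rc77 rfl
theorem ru78 : ∀ i, i < 41870 → fr i = true := below_step fr 41340 530 41870 ru77 rc78 rfl
theorem ru79 : ∀ i, i < 42400 → fr i = true := below_step fr 41870 530 42400 ru78 rc79 rfl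
theorem ru80 : ∀ i, i < 42930 → fr i = true := below_step fr 42400 530 42930 ru79 rc80 rfl
theorem ru81 : ∀ i, i < 43460 → fr i = true := below_step fr 42930 530 43460 ru80 rc81 rfl
theorem ru82 : ∀ i, i < 43990 → fr i = true := below_step fr 43460 530 43990 ru81 rc82 rfl
theorem ru83 : ∀ i, i < 44520 → fr i = true := below_step fr 43990 530 44520 ru82 rc83 rfl
theorem ru84 : ∀ i, i < 45050 → fr i = true := below_step fr 44520 530 45050 ru83 rc84 rfl
theorem ru85 : ∀ i, i < 45580 → fr i = true := below_step fr 45050 530 45580 ru84 rc85 rfl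
theorem ru86 : ∀ i, i < 46110 → fr i = true := below_step fr 45580 530 46110 ru85 rc86 rfl
theorem ru87 : ∀ i, i < 46640 → fr i = true := below_step fr 46110 530 46640 ru86 rc87 rfl
theorem ru88 : ∀ i, i < 47170 → fr i = true := below_step fr 46640 530 47170 ru87 rc88 rfl
theorem ru89 : ∀ i, i < 47700 → fr i = true := below_step fr 47170 530 47700 ru88 rc89 rfl
theorem ru90 : ∀ i, i < 48230 → fr i = true := below_step fr 47700 530 48230 ru89 rc90 rfl
theorem ru91 : ∀ i, i < 48760 → fr i = true := below_step fr 48230 530 48760 ru90 rc91 rfl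
theorem ru92 : ∀ i, i < 49290 → fr i = true := below_step fr 48760 530 49290 ru91 rc92 rfl
theorem ru93 : ∀ i, i < 49820 → fr i = true := below_step fr 49290 530 49820 ru92 rc93 rfl
theorem ru94 : ∀ i, i < 50350 → fr i = true := below_step fr 49820 530 50350 ru93 rc94 rfl
theorem ru95 : ∀ i, i < 50880 → fr i = true := below_step fr 50350 530 50880 ru94 rc95 rfl
theorem ru96 : ∀ i, i < 51410 → fr i = true := below_step fr 50880 530 51410 ru95 rc96 rfl
theorem ru97 : ∀ i, i < 51940 → fr i = true := below_step fr 51410 530 51940 ru96 rc97 rfl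
theorem ru98 : ∀ i, i < 52470 → fr i = true := below_step fr 51940 530 52470 ru97 rc98 rfl
theorem ru99 : ∀ i, i < 53000 → fr i = true := below_step fr 52470 530 53000 ru98 rc99 rfl
theorem ru100 : ∀ i, i < 53530 → fr i = true := below_step fr 53000 530 53530 ru99 rc100 rfl
theorem ru101 : ∀ i, i < 54060 → fr i = true := below_step fr 53530 530 54060 ru100 rc101 rfl
theorem ru102 : ∀ i, i < 54590 → fr i = true := below_step fr 54060 530 54590 ru101 rc102 rfl
theorem ru103 : ∀ i, i < 55120 → fr i = true := below_step fr 54590 530 55120 ru102 rc103 rfl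
theorem ru104 : ∀ i, i < 55650 → fr i = true := below_step fr 55120 530 55650 ru103 rc104 rfl
theorem ru105 : ∀ i, i < 56180 → fr i = true := below_step fr 55650 530 56180 ru104 rc105 rfl
theorem ru106 : ∀ i, i < 56710 → fr i = true := below_step fr 56180 530 56710 ru105 rc106 rfl
theorem ru107 : ∀ i, i < 57240 → fr i = true := below_step fr 56710 530 57240 ru106 rc107 rfl
theorem ru108 : ∀ i, i < 57770 → fr i = true := below_step fr 57240 530 57770 ru107 rc108 rfl
theorem ru109 : ∀ i, i < 58300 → fr i = true := below_step fr 57770 530 58300 ru108 rc109 rfl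
theorem ru110 : ∀ i, i < 58830 → fr i = true := below_step fr 58300 530 58830 ru109 rc110 rfl
theorem ru111 : ∀ i, i < 59360 → fr i = true := below_step fr 58830 530 59360 ru110 rc111 rfl
theorem ru112 : ∀ i, i < 59890 → fr i = true := below_step fr 59360 530 59890 ru111 rc112 rfl
theorem ru113 : ∀ i, i < 60420 → fr i = true := below_step fr 59890 530 60420 ru112 rc113 rfl
theorem ru114 : ∀ i, i < 60950 → fr i = true := below_step fr 60420 530 60950 ru113 rc114 rfl
theorem ru115 : ∀ i, i < 61480 → fr i = true := below_step fr 60950 530 61480 ru114 rc115 rfl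
theorem ru116 : ∀ i, i < 62010 → fr i = true := below_step fr 61480 530 62010 ru115 rc116 rfl
theorem ru117 : ∀ i, i < 62540 → fr i = true := below_step fr 62010 530 62540 ru116 rc117 rfl
theorem ru118 : ∀ i, i < 63070 → fr i = true := below_step fr 62540 530 63070 ru117 rc118 rfl
theorem ru119 : ∀ i, i < 63600 → fr i = true := below_step fr 63070 530 63600 ru118 rc119 rfl
theorem ru120 : ∀ i, i < 64130 → fr i = true := below_step fr 63600 530 64130 ru119 rc120 rfl
theorem ru121 : ∀ i, i < 64660 → fr i = true := below_step fr 64130 530 64660 ru120 rc121 rfl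
theorem ru122 : ∀ i, i < 65190 → fr i = true := below_step fr 64660 530 65190 ru121 rc122 rfl
theorem ru123 : ∀ i, i < 65720 → fr i = true := below_step fr 65190 530 65720 ru122 rc123 rfl
theorem ru124 : ∀ i, i < 66250 → fr i = true := below_step fr 65720 530 66250 ru123 rc124 rfl
theorem ru125 : ∀ i, i < 66780 → fr i = true := below_step fr 66250 530 66780 ru124 rc125 rfl
theorem ru126 : ∀ i, i < 67310 → fr i = true := below_step fr 66780 530 67310 ru125 rc126 rfl
theorem ru127 : ∀ i, i < 67840 → fr i = true := below_step fr 67310 530 67840 ru126 rc127 rfl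
theorem ru128 : ∀ i, i < 68370 → fr i = true := below_step fr 67840 530 68370 ru127 rc128 rfl
theorem ru129 : ∀ i, i < 68900 → fr i = true := below_step fr 68370 530 68900 ru128 rc129 rfl
theorem ru130 : ∀ i, i < 69430 → fr i = true := below_step fr 68900 530 69430 ru129 rc130 rfl
theorem ru131 : ∀ i, i < 69960 → fr i = true := below_step fr 69430 530 69960 ru130 rc131 rfl
theorem ru132 : ∀ i, i < 70490 → fr i = true := below_step fr 69960 530 70490 ru131 rc132 rfl
theorem ru133 : ∀ i, i < 71020 → fr i = true := below_step fr 70490 530 71020 ru132 rc133 rfl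
theorem ru134 : ∀ i, i < 71550 → fr i = true := below_step fr 71020 530 71550 ru133 rc134 rfl
theorem ru135 : ∀ i, i < 72080 → fr i = true := below_step fr 71550 530 72080 ru134 rc135 rfl
theorem ru136 : ∀ i, i < 72610 → fr i = true := below_step fr 72080 530 72610 ru135 rc136 rfl
theorem ru137 : ∀ i, i < 73140 → fr i = true := below_step fr 72610 530 73140 ru136 rc137 rfl
theorem ru138 : ∀ i, i < 73670 → fr i = true := below_step fr 73140 530 73670 ru137 rc138 rfl
theorem ru139 : ∀ i, i < 74200 → fr i = true := below_step fr 73670 530 74200 ru138 rc139 rfl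
theorem ru140 : ∀ i, i < 74730 → fr i = true := below_step fr 74200 530 74730 ru139 rc140 rfl
theorem ru141 : ∀ i, i < 75260 → fr i = true := below_step fr 74730 530 75260 ru140 rc141 rfl
theorem ru142 : ∀ i, i < 75790 → fr i = true := below_step fr 75260 530 75790 ru141 rc142 rfl
theorem ru143 : ∀ i, i < 76320 → fr i = true := below_step fr 75790 530 76320 ru142 rc143 rfl
theorem ru144 : ∀ i, i < 76850 → fr i = true := below_step fr 76320 530 76850 ru143 rc144 rfl
theorem ru145 : ∀ i, i < 77380 → fr i = true := below_step fr 76850 530 77380 ru144 rc145 rfl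
theorem ru146 : ∀ i, i < 77910 → fr i = true := below_step fr 77380 530 77910 ru145 rc146 rfl
theorem ru147 : ∀ i, i < 78440 → fr i = true := below_step fr 77910 530 78440 ru146 rc147 rfl
theorem ru148 : ∀ i, i < 78970 → fr i = true := below_step fr 78440 530 78970 ru147 rc148 rfl
theorem ru149 : ∀ i, i < 79500 → fr i = true := below_step fr 78970 530 79500 ru148 rc149 rfl
theorem ru150 : ∀ i, i < 80030 → fr i = true := below_step fr 79500 530 80030 ru149 rc150 rfl
theorem ru151 : ∀ i, i < 80560 → fr i = true := below_step fr 80030 530 80560 ru150 rc151 rfl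
theorem ru152 : ∀ i, i < 81090 → fr i = true := below_step fr 80560 530 81090 ru151 rc152 rfl
theorem ru153 : ∀ i, i < 81620 → fr i = true := below_step fr 81090 530 81620 ru152 rc153 rfl
theorem ru154 : ∀ i, i < 82150 → fr i = true := below_step fr 81620 530 82150 ru153 rc154 rfl
theorem ru155 : ∀ i, i < 82680 → fr i = true := below_step fr 82150 530 82680 ru154 rc155 rfl
theorem ru156 : ∀ i, i < 83210 → fr i = true := below_step fr 82680 530 83210 ru155 rc156 rfl
theorem ru157 : ∀ i, i < 83740 → fr i = true := below_step fr 83210 530 83740 ru156 rc157 rfl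
theorem ru158 : ∀ i, i < 84270 → fr i = true := below_step fr 83740 530 84270 ru157 rc158 rfl
theorem ru159 : ∀ i, i < 84800 → fr i = true := below_step fr 84270 530 84800 ru158 rc159 rfl
theorem ru160 : ∀ i, i < 85330 → fr i = true := below_step fr 84800 530 85330 ru159 rc160 rfl
theorem ru161 : ∀ i, i < 85860 → fr i = true := below_step fr 85330 530 85860 ru160 rc161 rfl
theorem ru162 : ∀ i, i < 86390 → fr i = true := below_step fr 85860 530 86390 ru161 rc162 rfl
theorem ru163 : ∀ i, i < 86920 → fr i = true := below_step fr 86390 530 86920 ru162 rc163 rfl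
theorem ru164 : ∀ i, i < 87450 → fr i = true := below_step fr 86920 530 87450 ru163 rc164 rfl
theorem ru165 : ∀ i, i < 87980 → fr i = true := below_step fr 87450 530 87980 ru164 rc165 rfl
theorem ru166 : ∀ i, i < 88510 → fr i = true := below_step fr 87980 530 88510 ru165 rc166 rfl
theorem ru167 : ∀ i, i < 89040 → fr i = true := below_step fr 88510 530 89040 ru166 rc167 rfl
theorem ru168 : ∀ i, i < 89570 → fr i = true := below_step fr 89040 530 89570 ru167 rc168 rfl
theorem ru169 : ∀ i, i < 90100 → fr i = true := below_step fr 89570 530 90100 ru168 rc169 rfl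
theorem ru170 : ∀ i, i < 90630 → fr i = true := below_step fr 90100 530 90630 ru169 rc170 rfl
theorem ru171 : ∀ i, i < 91160 → fr i = true := below_step fr 90630 530 91160 ru170 rc171 rfl
theorem ru172 : ∀ i, i < 91690 → fr i = true := below_step fr 91160 530 91690 ru171 rc172 rfl
theorem ru173 : ∀ i, i < 92220 → fr i = true := below_step fr 91690 530 92220 ru172 rc173 rfl
theorem ru174 : ∀ i, i < 92750 → fr i = true := below_step fr 92220 530 92750 ru173 rc174 rfl
theorem ru175 : ∀ i, i < 93280 → fr i = true := below_step fr 92750 530 93280 ru174 rc175 rfl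
theorem ru176 : ∀ i, i < 93810 → fr i = true := below_step fr 93280 530 93810 ru175 rc176 rfl
theorem ru177 : ∀ i, i < 94340 → fr i = true := below_step fr 93810 530 94340 ru176 rc177 rfl
theorem ru178 : ∀ i, i < 94870 → fr i = true := below_step fr 94340 530 94870 ru177 rc178 rfl
theorem ru179 : ∀ i, i < 95400 → fr i = true := below_step fr 94870 530 95400 ru178 rc179 rfl
theorem ru180 : ∀ i, i < 95930 → fr i = true := below_step fr 95400 530 95930 ru179 rc180 rfl
theorem ru181 : ∀ i, i < 96460 → fr i = true := below_step fr 95930 530 96460 ru180 rc181 rfl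
theorem ru182 : ∀ i, i < 96990 → fr i = true := below_step fr 96460 530 96990 ru181 rc182 rfl
theorem ru183 : ∀ i, i < 97520 → fr i = true := below_step fr 96990 530 97520 ru182 rc183 rfl
theorem ru184 : ∀ i, i < 98050 → fr i = true := below_step fr 97520 530 98050 ru183 rc184 rfl
theorem ru185 : ∀ i, i < 98580 → fr i = true := below_step fr 98050 530 98580 ru184 rc185 rfl
theorem ru186 : ∀ i, i < 99110 → fr i = true := below_step fr 98580 530 99110 ru185 rc186 rfl
theorem ru187 : ∀ i, i < 99640 → fr i = true := below_step fr 99110 530 99640 ru186 rc187 rfl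
theorem ru188 : ∀ i, i < 100170 → fr i = true := below_step fr 99640 530 100170 ru187 rc188 rfl
theorem ru189 : ∀ i, i < 100700 → fr i = true := below_step fr 100170 530 100700 ru188 rc189 rfl
theorem ru190 : ∀ i, i < 101230 → fr i = true := below_step fr 100700 530 101230 ru189 rc190 rfl
theorem ru191 : ∀ i, i < 101760 → fr i = true := below_step fr 101230 530 101760 ru190 rc191 rfl
theorem ru192 : ∀ i, i < 102290 → fr i = true := below_step fr 101760 530 102290 ru191 rc192 rfl
theorem ru193 : ∀ i, i < 102820 → fr i = true := below_step fr 102290 530 102820 ru192 rc193 rfl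
theorem ru194 : ∀ i, i < 103350 → fr i = true := below_step fr 102820 530 103350 ru193 rc194 rfl
theorem ru195 : ∀ i, i < 103880 → fr i = true := below_step fr 103350 530 103880 ru194 rc195 rfl
theorem ru196 : ∀ i, i < 104410 → fr i = true := below_step fr 103880 530 104410 ru195 rc196 rfl
theorem ru197 : ∀ i, i < 104940 → fr i = true := below_step fr 104410 530 104940 ru196 rc197 rfl
theorem ru198 : ∀ i, i < 105470 → fr i = true := below_step fr 104940 530 105470 ru197 rc198 rfl
theorem ru199 : ∀ i, i < 106000 → fr i = true := below_step fr 105470 530 106000 ru198 rc199 rfl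
theorem ru200 : ∀ i, i < 106530 → fr i = true := below_step fr 106000 530 106530 ru199 rc200 rfl
theorem ru201 : ∀ i, i < 107060 → fr i = true := below_step fr 106530 530 107060 ru200 rc201 rfl
theorem ru202 : ∀ i, i < 107590 → fr i = true := below_step fr 107060 530 107590 ru201 rc202 rfl
theorem ru203 : ∀ i, i < 108120 → fr i = true := below_step fr 107590 530 108120 ru202 rc203 rfl
theorem ru204 : ∀ i, i < 108650 → fr i = true := below_step fr 108120 530 108650 ru203 rc204 rfl
theorem ru205 : ∀ i, i < 109180 → fr i = true := below_step fr 108650 530 109180 ru204 rc205 rfl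
theorem ru206 : ∀ i, i < 109710 → fr i = true := below_step fr 109180 530 109710 ru205 rc206 rfl
theorem ru207 : ∀ i, i < 110240 → fr i = true := below_step fr 109710 530 110240 ru206 rc207 rfl
theorem ru208 : ∀ i, i < 110770 → fr i = true := below_step fr 110240 530 110770 ru207 rc208 rfl
theorem ru209 : ∀ i, i < 111300 → fr i = true := below_step fr 110770 530 111300 ru208 rc209 rfl
theorem ru210 : ∀ i, i < 111830 → fr i = true := below_step fr 111300 530 111830 ru209 rc210 rfl
theorem ru211 : ∀ i, i < 112360 → fr i = true := below_step fr 111830 530 112360 ru210 rc211 rfl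
theorem ru212 : ∀ i, i < 112890 → fr i = true := below_step fr 112360 530 112890 ru211 rc212 rfl
theorem ru213 : ∀ i, i < 113420 → fr i = true := below_step fr 112890 530 113420 ru212 rc213 rfl
theorem ru214 : ∀ i, i < 113950 → fr i = true := below_step fr 113420 530 113950 ru213 rc214 rfl
theorem ru215 : ∀ i, i < 114480 → fr i = true := below_step fr 113950 530 114480 ru214 rc215 rfl
theorem ru216 : ∀ i, i < 115010 → fr i = true := below_step fr 114480 530 115010 ru215 rc216 rfl
theorem ru217 : ∀ i, i < 115540 → fr i = true := below_step fr 115010 530 115540 ru216 rc217 rfl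
theorem ru218 : ∀ i, i < 116070 → fr i = true := below_step fr 115540 530 116070 ru217 rc218 rfl
theorem ru219 : ∀ i, i < 116600 → fr i = true := below_step fr 116070 530 116600 ru218 rc219 rfl
theorem ru220 : ∀ i, i < 117130 → fr i = true := below_step fr 116600 530 117130 ru219 rc220 rfl
theorem ru221 : ∀ i, i < 117660 → fr i = true := below_step fr 117130 530 117660 ru220 rc221 rfl
theorem ru222 : ∀ i, i < 118190 → fr i = true := below_step fr 117660 530 118190 ru221 rc222 rfl
theorem ru223 : ∀ i, i < 118720 → fr i = true := below_step fr 118190 530 118720 ru222 rc223 rfl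
theorem ru224 : ∀ i, i < 119250 → fr i = true := below_step fr 118720 530 119250 ru223 rc224 rfl
theorem ru225 : ∀ i, i < 119780 → fr i = true := below_step fr 119250 530 119780 ru224 rc225 rfl
theorem ru226 : ∀ i, i < 120310 → fr i = true := below_step fr 119780 530 120310 ru225 rc226 rfl
theorem ru227 : ∀ i, i < 120840 → fr i = true := below_step fr 120310 530 120840 ru226 rc227 rfl
theorem ru228 : ∀ i, i < 121370 → fr i = true := below_step fr 120840 530 121370 ru227 rc228 rfl
theorem ru229 : ∀ i, i < 121900 → fr i = true := below_step fr 121370 530 121900 ru228 rc229 rfl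
theorem ru230 : ∀ i, i < 122430 → fr i = true := below_step fr 121900 530 122430 ru229 rc230 rfl
theorem ru231 : ∀ i, i < 122760 → fr i = true := below_step fr 122430 330 122760 ru230 rc231 rfl
theorem hq0 (i : Nat) (hi : i < 122760) : q0 i = pwalk ON122760.permData.pt [4] i := by
  have h3 := Cfsg.Agent.Lib.Helper35.ONFast.subTab.pwalk_expand [4] (by decide +kernel) i hi
  rw [show expand [[0], [1], [2], [3], [4], [5], [6], [7]] [4] = [4] from by decide +kernel] at h3
  rw [h3]
  exact (Nat.eq_of_beq_eq_true (e0u2 i hi)).trans (we0.hf i)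
theorem hq1 (i : Nat) (hi : i < 122760) : q1 i = pwalk ON122760.permData.pt [2, 4, 5, 7, 4, 3, 6, 5, 4, 5, 0, 4, 3, 1, 5, 4, 5, 6, 3, 4, 7, 5, 4, 2] i := by
  have h3 := Cfsg.Agent.Lib.Helper35.ONFast.subTab.pwalk_expand [2, 4, 5, 7, 4, 3, 6, 5, 4, 5, 0, 4, 3, 1, 5, 4, 5, 6, 3, 4, 7, 5, 4, 2] (by decide +kernel) i hi
  rw [show expand [[0], [1], [2], [3], [4], [5], [6], [7]] [2, 4, 5, 7, 4, 3, 6, 5, 4, 5, 0, 4, 3, 1, 5, 4, 5, 6, 3, 4, 7, 5, 4, 2] = [2, 4, 5, 7, 4, 3, 6, 5, 4, 5, 0, 4, 3, 1, 5, 4, 5, 6, 3, 4, 7, 5, 4, 2] from by decide +kernel] at h3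
  rw [h3]
  exact (Nat.eq_of_beq_eq_true (e1u35 i hi)).trans (we1.hf i)
theorem hq2 (i : Nat) (hi : i < 122760) : q2 i = pwalk ON122760.permData.pt [2, 4, 5, 7, 4, 3, 6, 5, 4, 5, 0, 3, 4, 1, 5, 4, 5, 6, 3, 4, 7, 5, 4, 2] i := by
  have h3 := Cfsg.Agent.Lib.Helper35.ONFast.subTab.pwalk_expand [2, 4, 5, 7, 4, 3, 6, 5, 4, 5, 0, 3, 4, 1, 5, 4, 5, 6, 3, 4, 7, 5, 4, 2] (by decide +kernel) i hi
  rw [show expand [[0], [1], [2], [3], [4], [5], [6], [7]] [2, 4, 5, 7, 4, 3, 6, 5, 4, 5, 0, 3, 4, 1, 5, 4, 5, 6, 3, 4, 7, 5, 4, 2] = [2, 4, 5, 7, 4, 3, 6, 5, 4, 5, 0, 3, 4, 1, 5, 4, 5, 6, 3, 4, 7, 5, 4, 2] from by decide +kernel] at h3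
  rw [h3]
  exact (Nat.eq_of_beq_eq_true (e2u35 i hi)).trans (we2.hf i)
noncomputable def subTab : SubTab ON122760.permData [[4], [2, 4, 5, 7, 4, 3, 6, 5, 4, 5, 0, 4, 3, 1, 5, 4, 5, 6, 3, 4, 7, 5, 4, 2], [2, 4, 5, 7, 4, 3, 6, 5, 4, 5, 0, 3, 4, 1, 5, 4, 5, 6, 3, 4, 7, 5, 4, 2]] where
  qt := qt
  hWC := by decide +kernel
  hq := by
    intro c hc
    have hc' : c < 3 := hc
    interval_cases c
    exacts [hq0, hq1, hq2]
theorem hrel : ∀ b ∈ rls.map PLeaf.W, ∀ i, i < 122760 → pwalk qt b i = i := fix_of_leaves' rls 122760 ru231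

end Cfsg.Agent.Lib.Helper35.ONJ1
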